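import Groth.Agent.Ega43.SepGen
import Groth.Agent.FlatMor.K26.SemiLin
import Mathlib.RingTheory.NoetherNormalization
import Mathlib.RingTheory.Kaehler.Basic
import Mathlib.RingTheory.Unramified.Field
import Mathlib.RingTheory.Derivation.DifferentialRing
import Mathlib.LinearAlgebra.Matrix.Charpoly.Basic
import Mathlib.RingTheory.Ideal.Over

/-!
# Noether normalization over a valuation ring with separable generic fibre

Let `R` be a valuation ring (not a field) with separably closed fraction field `K`, `A` a domain of finite type
over `R` whose fraction field `L` is geometrically reduced over `K`.  There are algebraically independent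
`x_1, …, x_d` in `A` with `A / m A` integral over `R[x]` and `L / K(x)` separable algebraic.
-/

set_option autoImplicit false
universe u

open TensorProduct

namespace K434.Noether

open MvPolynomial

/-! ### Lifting algebraic independence from the closed fibre -/

theorem exists_dvd_all {R : Type*} [CommRing R] [IsDomain R] [ValuationRing R] {ι : Type*} {s : Finset ι}
    (hs : s.Nonempty) (f : ι → R) : ∃ i ∈ s, ∀ j ∈ s, f i ∣ f j := by
  classical
  induction hs using Finset.Nonempty.cons_induction with
  | singleton a => exact ⟨a, by simp, by simp⟩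
  | cons a s ha hs ih =>
    obtain ⟨i, hi, h⟩ := ih
    rcases ValuationRing.dvd_total (f a) (f i) with h1 | h1
    · refine ⟨a, Finset.mem_cons_self _ _, fun j hj => ?_⟩
      rcases Finset.mem_cons.1 hj with rfl | hj
      · exact dvd_rfl
      · exact h1.trans (h j hj)
    · refine ⟨i, Finset.mem_cons_of_mem hi, fun j hj => ?_⟩
      rcases Finset.mem_cons.1 hj with rfl | hj
      · exact h1
      · exact h j hj

/-- A nonzero polynomial over a valuation ring is a constant times a polynomial with a coefficient `1`. -/
theorem exists_eq_C_mul {R : Type*} [CommRing R] [IsDomain R] [ValuationRing R] {σ : Type*}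
    (P : MvPolynomial σ R) (hP : P ≠ 0) :
    ∃ (c : R) (Q : MvPolynomial σ R) (n : σ →₀ ℕ), c ≠ 0 ∧ P = C c * Q ∧ Q.coeff n = 1 := by
  obtain ⟨n, hn, h⟩ := exists_dvd_all (s := P.support) (MvPolynomial.support_nonempty.2 hP) P.coeff
  have hc : P.coeff n ≠ 0 := MvPolynomial.mem_support_iff.1 hn
  have h1 : C (P.coeff n) ∣ P := by
    rw [MvPolynomial.C_dvd_iff_dvd_coeff]
    intro i
    by_cases hi : i ∈ P.support
    · exact h i hi
    · rw [MvPolynomial.notMem_support_iff.1 hi]; exact dvd_zero _
  obtain ⟨Q, hQ⟩ := h1
  refine ⟨P.coeff n, Q, n, hc, hQ, ?_⟩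
  have h2 : P.coeff n = P.coeff n * Q.coeff n := by
    conv_lhs => rw [hQ]
    rw [MvPolynomial.coeff_C_mul]
  exact mul_left_cancel₀ hc (by rw [mul_one]; exact h2.symm)

theorem algebraicIndependent_of_quotient {R : Type*} [CommRing R] [IsDomain R] [ValuationRing R]
    {A : Type*} [CommRing A] [IsDomain A] [Algebra R A] (hinj : Function.Injective (algebraMap R A))
    (I : Ideal R) [I.IsPrime] {s : ℕ} (x : Fin s → A)
    (h : AlgebraicIndependent (R ⧸ I) (fun i => Ideal.Quotient.mk (I.map (algebraMap R A)) (x i))) :
    AlgebraicIndependent R x := by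
  rw [algebraicIndependent_iff] at h ⊢
  intro P hP
  by_contra hP0
  obtain ⟨c, Q, n, hc, hPQ, hQ⟩ := exists_eq_C_mul P hP0
  have h1 : aeval x Q = 0 := by
    rw [hPQ, map_mul, aeval_C] at hP
    rcases mul_eq_zero.1 hP with h2 | h2
    · exact absurd (hinj (h2.trans (map_zero _).symm)) hc
    · exact h2
  have h2 := h (Q.map (Ideal.Quotient.mk I)) (by
    have h3 : aeval (R := R ⧸ I) (fun i => Ideal.Quotient.mk (I.map (algebraMap R A)) (x i))
        (Q.map (Ideal.Quotient.mk I)) = Ideal.Quotient.mk (I.map (algebraMap R A)) (aeval x Q) := by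
      rw [aeval_def, eval₂_map, aeval_def, ← MvPolynomial.coe_eval₂Hom, ← MvPolynomial.coe_eval₂Hom]
      have h4 : (eval₂Hom ((algebraMap (R ⧸ I) (A ⧸ I.map (algebraMap R A))).comp (Ideal.Quotient.mk I))
          fun i => Ideal.Quotient.mk (I.map (algebraMap R A)) (x i)) =
          (Ideal.Quotient.mk (I.map (algebraMap R A))).comp (eval₂Hom (algebraMap R A) x) := by
        apply MvPolynomial.ringHom_ext
        · intro r
          rw [eval₂Hom_C, RingHom.comp_apply, RingHom.comp_apply, eval₂Hom_C]
          rfl
        · intro i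
          rw [eval₂Hom_X', RingHom.comp_apply, eval₂Hom_X']
      rw [h4]; rfl
    rw [h3, h1, map_zero])
  have h5 := congrArg (MvPolynomial.coeff n) h2
  rw [coeff_map, hQ, map_one, coeff_zero] at h5
  exact one_ne_zero h5

/-- Noether normalization of the closed fibre, lifted. -/
theorem exists_lift {R : Type u} [CommRing R] [IsDomain R] [ValuationRing R]
    {A : Type u} [CommRing A] [IsDomain A] [Algebra R A] [Algebra.FiniteType R A]
    (hinj : Function.Injective (algebraMap R A)) :
    ∃ (s : ℕ) (x : Fin s → A), AlgebraicIndependent R x ∧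
      ((Ideal.Quotient.mk ((IsLocalRing.maximalIdeal R).map (algebraMap R A))).comp
        (MvPolynomial.aeval x : MvPolynomial (Fin s) R →ₐ[R] A).toRingHom).IsIntegral := by
  set m := IsLocalRing.maximalIdeal R with hm
  rcases subsingleton_or_nontrivial (A ⧸ m.map (algebraMap R A)) with hB | hB
  · refine ⟨0, Fin.elim0, (algebraicIndependent_empty_type_iff (R := R)).2 hinj, fun b => ?_⟩
    exact ⟨1, Polynomial.monic_one, Subsingleton.elim _ _⟩
  · let _ : Field (R ⧸ m) := Ideal.Quotient.field m
    have hft : Algebra.FiniteType (R ⧸ m) (A ⧸ m.map (algebraMap R A)) := by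
      have h1 : Algebra.FiniteType R (A ⧸ m.map (algebraMap R A)) := inferInstance
      exact Algebra.FiniteType.of_restrictScalars_finiteType R _ _
    obtain ⟨s, g, hg, hgi⟩ := exists_integral_inj_algHom_of_fg (R ⧸ m) (A ⧸ m.map (algebraMap R A))
    choose x hx using fun i => Ideal.Quotient.mk_surjective (g (X i))
    have hgx : g = aeval (fun i => Ideal.Quotient.mk (m.map (algebraMap R A)) (x i)) := by
      apply MvPolynomial.algHom_ext
      intro i
      rw [aeval_X, hx]
    refine ⟨s, x, algebraicIndependent_of_quotient hinj m x ?_, ?_⟩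
    · rw [hgx] at hg
      exact hg
    · have h1 : (Ideal.Quotient.mk (m.map (algebraMap R A))).comp
          (MvPolynomial.aeval x : MvPolynomial (Fin s) R →ₐ[R] A).toRingHom =
          g.toRingHom.comp (MvPolynomial.map (Ideal.Quotient.mk m)) := by
        apply MvPolynomial.ringHom_ext
        · intro r
          rw [RingHom.comp_apply, RingHom.comp_apply, map_C]
          change Ideal.Quotient.mk _ (aeval x (C r)) = g (C (Ideal.Quotient.mk m r))
          rw [aeval_C, ← MvPolynomial.algebraMap_eq, AlgHom.commutes]
          rfl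
        · intro i
          rw [RingHom.comp_apply, RingHom.comp_apply, map_X]
          change Ideal.Quotient.mk _ (aeval x (X i)) = g (X i)
          rw [aeval_X, hx]
      rw [h1]
      refine RingHom.IsIntegral.trans _ _ (RingHom.isIntegral_of_surjective _ ?_) hgi
      exact MvPolynomial.map_surjective _ Ideal.Quotient.mk_surjective

/-! ### Differentials -/

section diff

variable {K L : Type*} [Field K] [Field L] [Algebra K L]

/-- If `L` is unramified over `K(S)`, the differentials of `S` span. -/
theorem span_D_of_formallyUnramified (S : Set L)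
    [Algebra.FormallyUnramified (IntermediateField.adjoin K S) L] :
    Submodule.span L (KaehlerDifferential.D K L '' S) = ⊤ := by
  set V := Submodule.span L (KaehlerDifferential.D K L '' S) with hV
  let δ : Derivation K L (Ω[L⁄K] ⧸ V) := V.mkQ.compDer (KaehlerDifferential.D K L)
  have hδ : ∀ l, δ l = V.mkQ (KaehlerDifferential.D K L l) := fun l => rfl
  have hδS : ∀ l ∈ IntermediateField.adjoin K S, δ l = 0 := by
    intro l hl
    induction hl using IntermediateField.adjoin_induction with
    | mem x hx =>
      rw [hδ, Submodule.mkQ_apply, Submodule.Quotient.mk_eq_zero]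
      exact Submodule.subset_span ⟨x, hx, rfl⟩
    | algebraMap x => exact δ.map_algebraMap x
    | add x y _ _ hx hy => rw [map_add, hx, hy, add_zero]
    | inv x _ hx => rw [Derivation.leibniz_inv, hx, smul_zero]
    | mul x y _ _ hx hy => rw [Derivation.leibniz, hx, hy, smul_zero, smul_zero, add_zero]
  let δ' : Derivation (IntermediateField.adjoin K S) L (Ω[L⁄K] ⧸ V) :=
    { toFun := δ
      map_add' := map_add δ
      map_smul' := fun c l => by
        have h1 : δ (algebraMap (IntermediateField.adjoin K S) L c) = 0 := hδS _ c.2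
        rw [Algebra.smul_def, Derivation.leibniz, h1, smul_zero, add_zero, algebraMap_smul]
        rfl
      map_one_eq_zero' := δ.map_one_eq_zero
      leibniz' := δ.leibniz }
  have h1 : ∀ l, δ l = 0 := by
    intro l
    have h2 : δ' l = 0 := by
      rw [← Derivation.liftKaehlerDifferential_comp_D δ' l,
        Subsingleton.elim (KaehlerDifferential.D (IntermediateField.adjoin K S) L l) 0, map_zero]
    exact h2
  rw [eq_top_iff, ← KaehlerDifferential.span_range_derivation, Submodule.span_le]
  rintro _ ⟨l, rfl⟩
  have h2 := h1 l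
  rw [hδ, Submodule.mkQ_apply, Submodule.Quotient.mk_eq_zero] at h2
  exact h2

/-- If the differentials of `S` span, then `L` is unramified over `K(S)`. -/
theorem formallyUnramified_of_span_D (S : Set L)
    (h : Submodule.span L (KaehlerDifferential.D K L '' S) = ⊤) :
    Algebra.FormallyUnramified (IntermediateField.adjoin K S) L := by
  constructor
  let F := IntermediateField.adjoin K S
  have hsurj := KaehlerDifferential.map_surjective K F L
  have h1 : LinearMap.range (KaehlerDifferential.map K F L L) = ⊥ := by
    rw [LinearMap.range_eq_map, ← h, Submodule.map_span, Submodule.span_eq_bot]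
    rintro _ ⟨_, ⟨s, hs, rfl⟩, rfl⟩
    rw [KaehlerDifferential.map_D]
    exact Derivation.map_algebraMap (KaehlerDifferential.D F L)
      (⟨s, IntermediateField.subset_adjoin K S hs⟩ : F)
  rw [LinearMap.range_eq_top.2 hsurj] at h1
  exact (Submodule.subsingleton_iff L).1 (subsingleton_of_bot_eq_top h1.symm)

end diff

theorem span_D_of_isFractionRing {K L : Type*} [Field K] [Field L] [Algebra K L] (A : Type*) [CommRing A]
    [IsDomain A] [Algebra A L] [IsFractionRing A L] :
    Submodule.span L (Set.range fun a : A => KaehlerDifferential.D K L (algebraMap A L a)) = ⊤ := by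
  rw [eq_top_iff, ← KaehlerDifferential.span_range_derivation, Submodule.span_le]
  rintro _ ⟨l, rfl⟩
  obtain ⟨a, b, hb, rfl⟩ := IsFractionRing.div_surjective (A := A) l
  rw [SetLike.mem_coe, Derivation.leibniz_div]
  refine Submodule.smul_mem _ _ (Submodule.sub_mem _ (Submodule.smul_mem _ _ ?_) (Submodule.smul_mem _ _ ?_))
  · exact Submodule.subset_span ⟨a, rfl⟩
  · exact Submodule.subset_span ⟨b, rfl⟩

/-- Choosing `d` elements of `A` whose differentials span. -/
theorem exists_span_D {K L : Type*} [Field K] [Field L] [Algebra K L] (A : Type*) [CommRing A]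
    [IsDomain A] [Algebra A L] [IsFractionRing A L] {d : ℕ} (v : Fin d → Ω[L⁄K])
    (hv : Submodule.span L (Set.range v) = ⊤) :
    ∃ y : Fin d → A, Submodule.span L (Set.range fun i => KaehlerDifferential.D K L (algebraMap A L (y i))) = ⊤ := by
  classical
  have hfin : Module.Finite L (Ω[L⁄K]) := ⟨⟨(Set.finite_range v).toFinset, by
    rw [Set.Finite.coe_toFinset]; exact hv⟩⟩
  have hrank : Module.finrank L (Ω[L⁄K]) ≤ d := by
    have h1 := finrank_range_le_card (R := L) v
    rw [Set.finrank, hv, finrank_top, Fintype.card_fin] at h1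
    exact h1
  obtain ⟨b, hbs, hspan, hli⟩ := exists_linearIndependent L
    (Set.range fun a : A => KaehlerDifferential.D K L (algebraMap A L a))
  rw [span_D_of_isFractionRing A] at hspan
  have hbfin : b.Finite := hli.setFinite
  have := hbfin.fintype
  have hcard : Fintype.card b ≤ d := hli.fintype_card_le_finrank.trans hrank
  choose a ha using fun w : b => hbs w.2
  obtain ⟨e⟩ : Nonempty (b ↪ Fin d) := Function.Embedding.nonempty_of_card_le (by simpa using hcard)
  refine ⟨Function.extend e a 0, ?_⟩
  rw [eq_top_iff, ← hspan, Submodule.span_le]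
  intro w hw
  refine Submodule.subset_span ⟨e ⟨w, hw⟩, ?_⟩
  change KaehlerDifferential.D K L (algebraMap A L (Function.extend e a 0 (e ⟨w, hw⟩))) = w
  rw [e.injective.extend_apply]
  exact ha ⟨w, hw⟩

/-- A perturbation of a matrix by a scalar in the maximal ideal is invertible. -/
theorem exists_isUnit_add {R : Type*} [CommRing R] [IsDomain R] [IsLocalRing R] (hR : ¬ IsField R) [Infinite R]
    {L : Type*} [Field L] [Algebra R L] (hinj : Function.Injective (algebraMap R L)) {d : ℕ}
    (M : Matrix (Fin d) (Fin d) L) :
    ∃ c ∈ IsLocalRing.maximalIdeal R, IsUnit (M + Matrix.scalar (Fin d) (algebraMap R L c)) := by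
  classical
  obtain ⟨π, hπm, hπ⟩ : ∃ π ∈ IsLocalRing.maximalIdeal R, π ≠ 0 := by
    by_contra hcon
    push Not at hcon
    exact hR (IsLocalRing.isField_iff_maximalIdeal_eq.2 (by
      rw [eq_bot_iff]; intro r hr; exact hcon r hr))
  have hfin : {t : L | (-M).charpoly.eval t = 0}.Finite := by
    refine ((-M).charpoly.roots.toFinset.finite_toSet).subset ?_
    intro t ht
    rw [Finset.mem_coe, Multiset.mem_toFinset,
      Polynomial.mem_roots (Matrix.charpoly_monic _).ne_zero]
    exact ht
  obtain ⟨t, ht⟩ : ∃ t : R, algebraMap R L (π * t) ∉ {t : L | (-M).charpoly.eval t = 0} := by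
    by_contra hall
    push Not at hall
    have h1 : (Set.range (fun t : R => algebraMap R L (π * t))).Finite :=
      hfin.subset (by rintro _ ⟨t, rfl⟩; exact hall t)
    refine Set.infinite_range_of_injective ?_ h1
    intro s t hst
    exact mul_left_cancel₀ hπ (hinj hst)
  refine ⟨π * t, Ideal.mul_mem_right _ _ hπm, ?_⟩
  rw [Matrix.isUnit_iff_isUnit_det, isUnit_iff_ne_zero]
  intro h0
  apply ht
  change (-M).charpoly.eval _ = 0
  rw [Matrix.eval_charpoly, ← h0]
  congr 1
  rw [sub_neg_eq_add, add_comm]

theorem exists_noether {R : Type u} [CommRing R] [IsDomain R] [ValuationRing R]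
    (hR : ¬ IsField R) (K : Type u) [Field K] [Algebra R K] [IsFractionRing R K] [IsSepClosed K]
    {A : Type u} [CommRing A] [IsDomain A] [Algebra R A] [Algebra.FiniteType R A]
    (hinj : Function.Injective (algebraMap R A))
    (L : Type u) [Field L] [Algebra A L] [IsFractionRing A L] [Algebra K L] [Algebra R L]
    [IsScalarTower R K L] [IsScalarTower R A L]
    (hgr : ∀ (E : Type u) [Field E] [Algebra K E], IsReduced (E ⊗[K] L)) :
    ∃ (d : ℕ) (x : Fin d → A), AlgebraicIndependent R x ∧
      ((Ideal.Quotient.mk ((IsLocalRing.maximalIdeal R).map (algebraMap R A))).comp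
        (MvPolynomial.aeval x : MvPolynomial (Fin d) R →ₐ[R] A).toRingHom).IsIntegral ∧
      Algebra.IsSeparable (IntermediateField.adjoin K (Set.range fun i => algebraMap A L (x i))) L := by
  classical
  have hinf : Infinite R := K26.SemiLin.infinite_of_isFractionRing R K
  have hRL : Function.Injective (algebraMap R L) := by
    rw [IsScalarTower.algebraMap_eq R A L]
    exact (IsFractionRing.injective A L).comp hinj
  have hess : Algebra.EssFiniteType K L := by
    have h1 : Algebra.EssFiniteType A L := Algebra.EssFiniteType.of_isLocalization L (nonZeroDivisors A)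
    have h2 : Algebra.EssFiniteType R L := Algebra.EssFiniteType.comp R A L
    exact Algebra.EssFiniteType.of_comp R K L
  obtain ⟨S, hS, hSsep⟩ := Groth.Agent.Ega43.SepGen.exists_separating_transcendenceBasis K L
    (hgr (AlgebraicClosure K))
  obtain ⟨s, x₀, hx₀, hx₀i⟩ := exists_lift (R := R) (A := A) hinj
  set d := S.card with hd
  -- `s ≤ d`
  have halg : Algebra.IsAlgebraic R K := IsLocalization.isAlgebraic K (nonZeroDivisors R)
  have htr : Algebra.trdeg K L = d := by
    rw [← hS.cardinalMk_eq_trdeg]
    simp [hd]
  have hsd : s ≤ d := by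
    have h1 : AlgebraicIndependent R (fun i => algebraMap A L (x₀ i)) :=
      hx₀.map' (f := IsScalarTower.toAlgHom R A L) (IsFractionRing.injective A L)
    have h2 : AlgebraicIndependent K (fun i => algebraMap A L (x₀ i)) := h1.extendScalars K
    have h3 := h2.lift_cardinalMk_le_trdeg
    rw [htr] at h3
    simpa using h3
  -- the differentials
  have hunr : Algebra.FormallyUnramified (IntermediateField.adjoin K (S : Set L)) L :=
    Algebra.FormallyUnramified.of_isSeparable _ _
  have hspanS := span_D_of_formallyUnramified (K := K) (S : Set L)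
  obtain ⟨y, hy⟩ : ∃ y : Fin d → A,
      Submodule.span L (Set.range fun i => KaehlerDifferential.D K L (algebraMap A L (y i))) = ⊤ := by
    refine exists_span_D (K := K) A (fun i => KaehlerDifferential.D K L (S.equivFin.symm i : L)) ?_
    rw [← hspanS]
    congr 1
    ext w
    constructor
    · rintro ⟨i, rfl⟩
      exact ⟨_, (S.equivFin.symm i).2, rfl⟩
    · rintro ⟨l, hl, rfl⟩
      exact ⟨S.equivFin ⟨l, hl⟩, by simp⟩
  let x₁ : Fin d → A := fun i => if h : (i : ℕ) < s then x₀ ⟨i, h⟩ else 0
  have hM : ∀ i, ∃ c : Fin d → L, ∑ j, c j • KaehlerDifferential.D K L (algebraMap A L (y j)) =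
      KaehlerDifferential.D K L (algebraMap A L (x₁ i)) := fun i =>
    (Submodule.mem_span_range_iff_exists_fun L).1 (by rw [hy]; trivial)
  choose M hM using hM
  obtain ⟨c, hc, hu⟩ := exists_isUnit_add hR hRL (Matrix.of M)
  let x : Fin d → A := fun i => x₁ i + algebraMap R A c * y i
  have hDx : ∀ i, KaehlerDifferential.D K L (algebraMap A L (x i)) =
      ∑ j, (Matrix.of M + Matrix.scalar (Fin d) (algebraMap R L c)) i j •
        KaehlerDifferential.D K L (algebraMap A L (y j)) := by
    intro i
    have h1 : algebraMap A L (x i) = algebraMap A L (x₁ i) + algebraMap K L (algebraMap R K c) *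
        algebraMap A L (y i) := by
      simp only [x, map_add, map_mul]
      rw [← IsScalarTower.algebraMap_apply R K L, ← IsScalarTower.algebraMap_apply R A L]
    rw [h1, map_add, ← hM, ← Algebra.smul_def, Derivation.map_smul]
    simp only [Matrix.add_apply, Matrix.of_apply, add_smul, Finset.sum_add_distrib]
    congr 1
    rw [Finset.sum_eq_single i]
    · rw [Matrix.scalar_apply, Matrix.diagonal_apply_eq, IsScalarTower.algebraMap_apply R K L]
      exact (algebraMap_smul L (algebraMap R K c) _).symm
    · intro j _ hj
      rw [Matrix.scalar_apply, Matrix.diagonal_apply_ne _ (Ne.symm hj), zero_smul]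
    · intro h; exact absurd (Finset.mem_univ i) h
  have hspanx : Submodule.span L (KaehlerDifferential.D K L '' (Set.range fun i => algebraMap A L (x i))) = ⊤ := by
    rw [eq_top_iff, ← hy, Submodule.span_le]
    rintro _ ⟨j, rfl⟩
    obtain ⟨u, hu⟩ := hu
    have h1 : KaehlerDifferential.D K L (algebraMap A L (y j)) =
        ∑ i, (↑u⁻¹ : Matrix (Fin d) (Fin d) L) j i • KaehlerDifferential.D K L (algebraMap A L (x i)) := by
      simp only [hDx, ← hu, Finset.smul_sum, smul_smul]
      rw [Finset.sum_comm]
      simp only [← Finset.sum_smul, ← Matrix.mul_apply]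
      rw [Units.inv_mul, Finset.sum_eq_single j]
      · rw [Matrix.one_apply_eq, one_smul]
      · intro i _ hi
        rw [Matrix.one_apply_ne (Ne.symm hi), zero_smul]
      · intro h; exact absurd (Finset.mem_univ j) h
    change KaehlerDifferential.D K L (algebraMap A L (y j)) ∈ _
    rw [h1]
    exact Submodule.sum_mem _ fun i _ => Submodule.smul_mem _ _ (Submodule.subset_span ⟨_, ⟨i, rfl⟩, rfl⟩)
  have hunrx := formallyUnramified_of_span_D (K := K) (Set.range fun i => algebraMap A L (x i)) hspanx
  have hessx : Algebra.EssFiniteType (IntermediateField.adjoin K (Set.range fun i => algebraMap A L (x i))) L :=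
    Algebra.EssFiniteType.of_comp K _ L
  have hsepx : Algebra.IsSeparable (IntermediateField.adjoin K (Set.range fun i => algebraMap A L (x i))) L :=
    Algebra.FormallyUnramified.isSeparable _ _
  refine ⟨d, x, ?_, ?_, hsepx⟩
  · have halgx : Algebra.IsAlgebraic (Algebra.adjoin K (Set.range fun i => algebraMap A L (x i))) L := by
      rw [← IntermediateField.isAlgebraic_adjoin_iff_top]
      infer_instance
    have h1 : IsTranscendenceBasis K (fun i => algebraMap A L (x i)) := by
      refine Algebra.IsAlgebraic.isTranscendenceBasis_of_lift_le_trdeg_of_finite K _ ?_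
      rw [htr]
      simp
    have h2 : AlgebraicIndependent R (fun i => algebraMap A L (x i)) :=
      h1.1.restrictScalars (IsFractionRing.injective R K)
    exact ((IsScalarTower.toAlgHom R A L).algebraicIndependent_iff (IsFractionRing.injective A L)).1 h2
  · have h1 : ((Ideal.Quotient.mk ((IsLocalRing.maximalIdeal R).map (algebraMap R A))).comp
        (MvPolynomial.aeval x : MvPolynomial (Fin d) R →ₐ[R] A).toRingHom).comp
        (MvPolynomial.rename (Fin.castLE hsd) : MvPolynomial (Fin s) R →ₐ[R] _).toRingHom =
        (Ideal.Quotient.mk ((IsLocalRing.maximalIdeal R).map (algebraMap R A))).comp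
        (MvPolynomial.aeval x₀ : MvPolynomial (Fin s) R →ₐ[R] A).toRingHom := by
      apply MvPolynomial.ringHom_ext
      · intro r
        change Ideal.Quotient.mk _ (aeval x (rename (Fin.castLE hsd) (C r))) = Ideal.Quotient.mk _ (aeval x₀ (C r))
        rw [rename_C, aeval_C, aeval_C]
      · intro i
        change Ideal.Quotient.mk _ (aeval x (rename (Fin.castLE hsd) (X i))) = Ideal.Quotient.mk _ (aeval x₀ (X i))
        rw [rename_X, aeval_X, aeval_X, Ideal.Quotient.eq]
        have h2 : x₁ (Fin.castLE hsd i) = x₀ i := by
          simp [x₁]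
        have h3 : x (Fin.castLE hsd i) - x₀ i = algebraMap R A c * y (Fin.castLE hsd i) := by
          simp only [x, h2]; ring
        rw [h3]
        exact Ideal.mul_mem_right _ _ (Ideal.mem_map_of_mem _ hc)
    exact RingHom.IsIntegral.tower_top _ _ (by rw [h1]; exact hx₀i)

end K434.Noether
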